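/-
Three pairwise coprime numbers with proportion above `1 / 7` exclude `PSL₂(q)`; numerical data of the small Ree groups.
-/
import Cfsg.Agent.TBW.NseB
import Cfsg.Agent.S2357
import Cfsg.Agent.S1159
import Cfsg.Agent.S1069
import Cfsg.Agent.Known.ChevCongr

set_option autoImplicit false

open CL.SL2 Cfsg
open scoped MatrixGroups

namespace CL.TBW.Nse

/-- Three pairwise coprime numbers without small prime divisors, each with proportion above `1 / 7`. -/
structure Three (L : Type*) [Group L] (t s r : ℕ) : Prop where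
  bt : Big t
  bs : Big s
  br : Big r
  ts : Nat.Coprime t s
  tr : Nat.Coprime t r
  sr : Nat.Coprime s r
  pt : Nat.card L < 7 * xc L t
  ps : Nat.card L < 7 * xc L s
  pr : Nat.card L < 7 * xc L r

theorem Three.congr {L L' : Type*} [Group L] [Group L'] {t s r : ℕ} (h : Three L t s r) (e : L ≃* L') :
    Three L' t s r :=
  ⟨h.bt, h.bs, h.br, h.ts, h.tr, h.sr, by rw [← xc_congr e, ← Nat.card_congr e.toEquiv]; exact h.pt,
    by rw [← xc_congr e, ← Nat.card_congr e.toEquiv]; exact h.ps,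
    by rw [← xc_congr e, ← Nat.card_congr e.toEquiv]; exact h.pr⟩

theorem Three.not_dvd {L : Type*} [Group L] [Finite L] {t s r : ℕ} (h : Three L t s r) (h7 : 7 ≤ Nat.card L)
    {i j : ℕ} (hd : Nat.card L ∣ 2 ^ i * 3 ^ j * 7 * 13) : False := by
  have k : ∀ t, Big t → Nat.card L < 7 * xc L t → 7 ∣ t ∨ 13 ∣ t := fun t ht h1 => by
    obtain ⟨p, hp, h2, h3⟩ := exists_prime h7 h1
    have h4 := ht p hp h2
    rcases (Nat.Prime.dvd_mul hp).1 (h3.trans hd) with h5 | h5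
    · rcases (Nat.Prime.dvd_mul hp).1 h5 with h6 | h6
      · rcases (Nat.Prime.dvd_mul hp).1 h6 with h7 | h7 <;>
          have := Nat.le_of_dvd (by norm_num) (hp.dvd_of_dvd_pow h7) <;> omega
      · exact Or.inl ((Nat.prime_dvd_prime_iff_eq hp (by norm_num)).1 h6 ▸ h2)
    · exact Or.inr ((Nat.prime_dvd_prime_iff_eq hp (by norm_num)).1 h5 ▸ h2)
  have c : ∀ {a b p : ℕ}, Nat.Coprime a b → p ∣ a → p ∣ b → p = 1 := fun h h1 h2 => Nat.eq_one_of_dvd_coprimes h h1 h2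
  rcases k t h.bt h.pt with h1 | h1 <;> rcases k s h.bs h.ps with h2 | h2 <;> rcases k r h.br h.pr with h3 | h3 <;>
    first | exact absurd (c h.ts h1 h2) (by norm_num) | exact absurd (c h.tr h1 h3) (by norm_num) |
      exact absurd (c h.sr h2 h3) (by norm_num)

theorem gcd_alt {t s n : ℕ} (ht : Big t) (hs : Big s) (hc : Nat.Coprime t s) (hn : 0 < n) :
    Nat.gcd s (2 * n) = 1 ∨ 7 * Nat.gcd t (2 * n) ≤ n := by
  have k : ∀ t, Big t → Nat.gcd t (2 * n) ∣ n := fun t ht =>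
    ((ht.of_dvd (Nat.gcd_dvd_left _ _)).coprime two_pos (by norm_num)).dvd_of_dvd_mul_left (Nat.gcd_dvd_right _ _)
  refine (hs.of_dvd (Nat.gcd_dvd_left s (2 * n))).eq_one_or.imp_right fun h => ?_
  have h1 : Nat.Coprime (Nat.gcd s (2 * n)) (Nat.gcd t (2 * n)) :=
    (hc.symm.coprime_dvd_left (Nat.gcd_dvd_left _ _)).coprime_dvd_right (Nat.gcd_dvd_left _ _)
  exact (Nat.mul_le_mul_right _ h).trans (Nat.le_of_dvd hn (h1.mul_dvd_of_dvd_of_dvd (k s hs) (k t ht)))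

theorem not_three_odd {F : Type*} [Field F] [Fintype F] (ho : Odd (Fintype.card F)) (h3 : 3 < Fintype.card F)
    (h5 : ¬ 5 ∣ Nat.card PSL(2, F)) {t s r : ℕ} (h : Three PSL(2, F) t s r) : False := by
  classical
  obtain ⟨p, hchar, ⟨k, hk⟩, hp, hq⟩ := FiniteField.card' F
  have := Fact.mk hp
  have h2 : (2 : F) ≠ 0 := fun h => Nat.not_even_iff_odd.2 ho (even_card_of_two_eq_zero h)
  have hc := card_psl_mul (F := F)
  rw [gcd_two_of_ne h2] at hc
  obtain ⟨n, hn⟩ := ho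
  have hc2 : Nat.card PSL(2, F) = (Fintype.card F ^ 2 + Fintype.card F) * n := by
    have e : Fintype.card F ^ 2 - 1 = 4 * n * (n + 1) := by
      rw [hn]; exact Nat.sub_eq_of_eq_add (by ring)
    rw [e] at hc
    refine Nat.eq_of_mul_eq_mul_right two_pos (hc.trans ?_)
    rw [hn]; ring
  have h8 : 8 ≤ n := by
    by_contra h9
    have h10 : 2 ≤ n := by omega
    have h11 : n ≤ 7 := by omega
    rw [hn] at hc2
    interval_cases n
    · exact h5 (by rw [hc2]; norm_num)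
    · exact h.not_dvd (by rw [hc2]; norm_num) (i := 3) (j := 1) (by rw [hc2]; norm_num)
    · exact h5 (by rw [hc2]; norm_num)
    · exact h5 (by rw [hc2]; norm_num)
    · exact h.not_dvd (by rw [hc2]; norm_num) (i := 3) (j := 1) (by rw [hc2]; norm_num)
    · exact h5 (by rw [hc2]; norm_num)
  have e1 : Fintype.card F + 1 = 2 * (n + 1) := by omega
  have e2 : Fintype.card F - 1 = 2 * n := by omega
  have key : ∀ t, Big t → Nat.card PSL(2, F) < 7 * xc PSL(2, F) t →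
      2 * n + 14 ≤ 7 * (Nat.gcd t (2 * (n + 1)) + Nat.gcd t (2 * n) + 2 * if p ∣ t then 1 else 0) := fun t ht h1 => by
    obtain ⟨a, ha⟩ := (ht.of_dvd (Nat.gcd_dvd_left t (2 * (n + 1)))).odd
    obtain ⟨b, hb⟩ := (ht.of_dvd (Nat.gcd_dvd_left t (2 * n))).odd
    have h4 := xc_psl_le p h2 (δ := if p ∣ t then 1 else 0) ht.odd (e1 ▸ ha) (e2 ▸ hb) fun h => if_pos h
    rw [ha, hb]
    generalize (if p ∣ t then 1 else 0) = δ at *
    have hA : 7 ≤ Fintype.card F ^ 2 + Fintype.card F := by omega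
    generalize Fintype.card F ^ 2 + Fintype.card F = A at *
    by_contra h6
    have h7 : 7 * (a + b + δ) + 1 ≤ n := by omega
    have := Nat.mul_le_mul_left A h7
    nlinarith
  have k1 := key t h.bt h.pt
  have k2 := key s h.bs h.ps
  have k3 := key r h.br h.pr
  have a1 := gcd_alt h.bt h.bs h.ts (n.succ_pos)
  have a2 := gcd_alt h.bs h.bt h.ts.symm (n.succ_pos)
  have a3 := gcd_alt h.bt h.br h.tr (n.succ_pos)
  have a4 := gcd_alt h.br h.bt h.tr.symm (n.succ_pos)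
  have a5 := gcd_alt h.bs h.br h.sr (n.succ_pos)
  have a6 := gcd_alt h.br h.bs h.sr.symm (n.succ_pos)
  have n0 : 0 < n := by omega
  have b1 := gcd_alt h.bt h.bs h.ts n0
  have b2 := gcd_alt h.bs h.bt h.ts.symm n0
  have b3 := gcd_alt h.bt h.br h.tr n0
  have b4 := gcd_alt h.br h.bt h.tr.symm n0
  have b5 := gcd_alt h.bs h.br h.sr n0
  have b6 := gcd_alt h.br h.bs h.sr.symm n0
  have c : ∀ {a b : ℕ}, Nat.Coprime a b → p ∣ a → p ∣ b → False := fun h h1 h2 =>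
    hp.one_lt.ne' (Nat.eq_one_of_dvd_coprimes h h1 h2)
  simp only [Nat.succ_eq_add_one] at a1 a2 a3 a4 a5 a6
  by_cases d1 : p ∣ t <;> by_cases d2 : p ∣ s <;> by_cases d3 : p ∣ r <;>
    first | exact c h.ts d1 d2 | exact c h.tr d1 d3 | exact c h.sr d2 d3 |
      (simp only [d1, d2, d3, if_true, if_false] at k1 k2 k3; omega)

/-! ### The small Ree groups -/

/-- The numbers attached to `q = 3 ^ (2 m + 1) = 3 u²`. -/
structure Num (m u b e ap am : ℕ) : Prop where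
  hu : u = 3 ^ m
  hb : 3 * u ^ 2 = 2 * b + 1
  he : 3 * u ^ 2 + 1 = 4 * e
  hap : ap = 3 * u ^ 2 + 3 * u + 1
  ham : am + 3 * u = 3 * u ^ 2 + 1

theorem exists_num (m : ℕ) : ∃ u b e ap am, Num m u b e ap am := by
  obtain ⟨w, hw⟩ : Odd (3 ^ m) := Odd.pow (by decide)
  refine ⟨3 ^ m, 6 * w ^ 2 + 6 * w + 1, 3 * w ^ 2 + 3 * w + 1, _, 12 * w ^ 2 + 6 * w + 1, rfl, ?_, ?_, rfl, ?_⟩ <;>
    rw [hw] <;> ring

namespace Num

variable {m u b e ap am : ℕ} (h : Num m u b e ap am)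
include h

theorem q : 3 ^ (2 * m + 1) = 3 * u ^ 2 := by rw [h.hu]; ring
theorem s : 3 ^ (m + 1) = 3 * u := by rw [h.hu]; ring
theorem upos : 0 < u := h.hu ▸ by positivity
theorem three_le (hm : 1 ≤ m) : 3 ≤ u := h.hu ▸ Nat.le_self_pow (by omega) 3
theorem q1 : 3 * u ^ 2 - 1 = 2 * b := by have := h.hb; omega
theorem mul : ap * am + 3 * u ^ 2 = (3 * u ^ 2) ^ 2 + 1 := by
  have h1 := h.ham
  rw [h.hap]
  zify at h1 ⊢
  linear_combination (3 * (u : ℤ) ^ 2 + 3 * u + 1) * h1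
theorem q2 : (3 * u ^ 2) ^ 2 - 3 * u ^ 2 + 1 = ap * am := by
  have h1 := h.mul
  have h2 : 3 * u ^ 2 ≤ (3 * u ^ 2) ^ 2 := Nat.le_self_pow two_ne_zero _
  omega
theorem q3 : (3 * u ^ 2) ^ 2 - 1 = 8 * b * e := by
  refine Nat.sub_eq_of_eq_add ?_
  have h1 := h.hb
  have h2 := h.he
  zify at h1 h2 ⊢
  linear_combination (3 * (u : ℤ) ^ 2 + 1) * h1 + 2 * (b : ℤ) * h2
theorem q4 : (3 * u ^ 2) ^ 3 + 1 = 4 * e * ap * am := by
  have h1 := h.mul
  have h2 := h.he
  zify at h1 h2 ⊢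
  linear_combination (ap : ℤ) * am * h2 - (3 * (u : ℤ) ^ 2 + 1) * h1
theorem q5 : (3 * u ^ 2 + 1) / 4 = e := by have := h.he; omega
theorem q6 : (3 * u ^ 2 + 1) / 2 = 2 * e := by have := h.he; omega
theorem q7 : 3 * u ^ 2 - 3 * u + 1 = am := by
  have h1 := h.ham
  have h2 : u ≤ u ^ 2 := Nat.le_self_pow two_ne_zero _
  omega
theorem q8 : 3 * u ^ 2 + 3 * u + 1 = ap := h.hap.symm

theorem not_five : ¬ 5 ∣ 216 * u ^ 6 * b * e * ap * am := by
  have e1 : 216 * u ^ 6 * b * e * ap * am = (3 * u ^ 2) ^ 3 * (2 * b) * ((3 * u ^ 2) ^ 3 + 1) := by rw [h.q4]; ring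
  have h1 : ¬ 5 ∣ u := fun h1 => absurd (Nat.prime_five.dvd_of_dvd_pow (h.hu ▸ h1)) (by norm_num)
  have h2 : (3 * u ^ 2) % 5 = 2 ∨ (3 * u ^ 2) % 5 = 3 := by
    have : u % 5 = 1 ∨ u % 5 = 2 ∨ u % 5 = 3 ∨ u % 5 = 4 := by omega
    rcases this with k | k | k | k <;> simp [Nat.mul_mod, Nat.pow_mod, k]
  have h3 := h.hb
  rw [e1]
  generalize 3 * u ^ 2 = q at *
  intro h4
  rcases (Nat.Prime.dvd_mul Nat.prime_five).1 h4 with h5 | h5
  · rcases (Nat.Prime.dvd_mul Nat.prime_five).1 h5 with h6 | h6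
    · have := Nat.prime_five.dvd_of_dvd_pow h6
      omega
    · omega
  · have h6 := Nat.mod_eq_zero_of_dvd h5
    rcases h2 with k | k <;> simp [Nat.add_mod, Nat.pow_mod, k] at h6

theorem big {t : ℕ} (h1 : t ∣ 216 * u ^ 6 * b * e * ap * am) (h2 : ¬ 2 ∣ t) (h3 : ¬ 3 ∣ t) : Big t := fun r hr hd => by
  by_contra h4
  have h5 : r ≤ 6 := by omega
  have := hr.two_le
  interval_cases r
  · exact h2 hd
  · exact h3 hd
  · exact absurd hr (by norm_num)
  · exact h.not_five (hd.trans h1)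
  · exact absurd hr (by norm_num)

omit h in
theorem par : (u ^ 2) % 2 = u % 2 := by
  rcases Nat.mod_two_eq_zero_or_one u with k | k <;> simp [Nat.pow_mod, k]

theorem big_b : Big b := h.big ⟨216 * u ^ 6 * e * ap * am, by ring⟩
  (by have := h.hb; have := h.he; omega) (by have := h.hb; omega)
theorem big_ap : Big ap := h.big ⟨216 * u ^ 6 * e * b * am, by ring⟩
  (by have := h.hap; have := par (u := u); omega) (by have := h.hap; omega)
theorem big_am : Big am := h.big ⟨216 * u ^ 6 * e * ap * b, by ring⟩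
  (by have := h.ham; have := par (u := u); omega) (by have := h.ham; omega)

theorem cop_ap_am : Nat.Coprime ap am := Nat.coprime_of_dvd fun r hr h1 h2 => by
  have h3 := h.big_ap r hr h1
  have h4 : ap = am + 2 * 3 ^ (m + 1) := by have := h.hap; have := h.ham; have := h.s; omega
  have h5 : r ∣ 2 * 3 ^ (m + 1) := (Nat.dvd_add_right h2).1 (h4 ▸ h1)
  rcases (Nat.Prime.dvd_mul hr).1 h5 with h6 | h6
  · have := Nat.le_of_dvd two_pos h6
    omega
  · have := Nat.le_of_dvd (by norm_num) (hr.dvd_of_dvd_pow h6)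
    omega

theorem cop_b (k : ℕ) : Nat.Coprime b (3 ^ k + 1) := Nat.coprime_of_dvd fun r hr h1 h2 => by
  have h3 := h.big_b r hr h1
  have h4 : (3 : ZMod r) ^ (2 * m + 1) = 1 := by
    have : ((3 ^ (2 * m + 1) : ℕ) : ZMod r) = ((2 * b + 1 : ℕ) : ZMod r) := by rw [h.q, h.hb]
    push_cast at this
    rw [this, (ZMod.natCast_eq_zero_iff b r).2 h1]
    simp
  have h5 : (3 : ZMod r) ^ k = -1 := by
    have := (ZMod.natCast_eq_zero_iff _ r).2 h2
    push_cast at this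
    exact eq_neg_of_add_eq_zero_left this
  have h6 : ((3 : ZMod r) ^ k) ^ (2 * m + 1) = 1 := by rw [← pow_mul, mul_comm, pow_mul, h4, one_pow]
  rw [h5, Odd.neg_one_pow ⟨m, rfl⟩] at h6
  have h7 : ((2 : ℕ) : ZMod r) = 0 := by push_cast; linear_combination -h6
  have := Nat.le_of_dvd two_pos ((ZMod.natCast_eq_zero_iff 2 r).1 h7)
  omega

theorem cop_b' {m' u' b' e' ap' am' : ℕ} (h' : Num m' u' b' e' ap' am') : Nat.Coprime b (4 * e' * ap' * am') := by
  rw [← h'.q4, ← h'.q, ← pow_mul]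
  exact h.cop_b _

theorem cb : 54 * u ^ 6 * e * ap * am ≡ 1 [MOD b] := by
  have h1 := h.hb
  have h2 := h.q4
  have : 54 * u ^ 6 * e * ap * am = 1 + b * (((3 * u ^ 2) ^ 2 + 3 * u ^ 2 + 1) * ((3 * u ^ 2) ^ 3 + 2)) := by
    refine Nat.eq_of_mul_eq_mul_left two_pos ?_
    zify at h1 h2 ⊢
    linear_combination (-27 * (u : ℤ) ^ 6) * h2 +
      (((3 * (u : ℤ) ^ 2) ^ 2 + 3 * u ^ 2 + 1) * ((3 * u ^ 2) ^ 3 + 2)) * h1
  rw [this]
  exact Nat.add_mul_mod_self_left _ _ _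

theorem cap : 36 * u ^ 6 * b * e * am ≡ 1 [MOD ap] := by
  refine Nat.ModEq.cancel_left_of_coprime (c := 6) (h.big_ap.coprime (by norm_num) (by norm_num)) ?_
  rw [Nat.modEq_iff_dvd]
  have h1 := h.hb
  have h2 := h.he
  have h3 := h.hap
  have h4 := h.ham
  zify at h1 h2 h3 h4
  refine ⟨-(-6 + 18 * u - 36 * u ^ 2 + 54 * u ^ 3 - 54 * u ^ 4 + 135 * u ^ 6 - 324 * u ^ 7 + 486 * u ^ 8 - 486 * u ^ 9 +
    243 * u ^ 10), ?_⟩
  have k1 : (b : ℤ) * 2 = 3 * u ^ 2 - 1 := by linear_combination -h1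
  have k2 : (e : ℤ) * 4 = 3 * u ^ 2 + 1 := by linear_combination -h2
  have k3 : (am : ℤ) = 3 * u ^ 2 - 3 * u + 1 := by linear_combination h4
  have k4 : ((6 * (36 * u ^ 6 * b * e * am) : ℕ) : ℤ) = 27 * u ^ 6 * (b * 2) * (e * 4) * am := by push_cast; ring
  rw [k4, k1, k2, k3, h3]
  push_cast
  ring

theorem cam : 36 * u ^ 6 * b * e * ap ≡ 1 [MOD am] := by
  refine Nat.ModEq.cancel_left_of_coprime (c := 6) (h.big_am.coprime (by norm_num) (by norm_num)) ?_
  rw [Nat.modEq_iff_dvd]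
  have h1 := h.hb
  have h2 := h.he
  have h3 := h.hap
  have h4 := h.ham
  zify at h1 h2 h3 h4
  refine ⟨-(-6 - 18 * u - 36 * u ^ 2 - 54 * u ^ 3 - 54 * u ^ 4 + 135 * u ^ 6 + 324 * u ^ 7 + 486 * u ^ 8 + 486 * u ^ 9 +
    243 * u ^ 10), ?_⟩
  have k1 : (b : ℤ) * 2 = 3 * u ^ 2 - 1 := by linear_combination -h1
  have k2 : (e : ℤ) * 4 = 3 * u ^ 2 + 1 := by linear_combination -h2
  have k3 : (am : ℤ) = 3 * u ^ 2 - 3 * u + 1 := by linear_combination h4
  have k4 : ((6 * (36 * u ^ 6 * b * e * ap) : ℕ) : ℤ) = 27 * u ^ 6 * (b * 2) * (e * 4) * ap := by push_cast; ring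
  rw [k4, k1, k2, k3, h3]
  push_cast
  ring

theorem not_sixteen : ¬ 16 ∣ 216 * u ^ 6 * b * e * ap * am := by
  intro h1
  have e1 : 216 * u ^ 6 * b * e * ap * am = 8 * (27 * u ^ 6 * b * e * ap * am) := by ring
  have h2 : 2 ∣ 27 * u ^ 6 * b * e * ap * am := by omega
  have hu : Odd u := h.hu ▸ Odd.pow (by decide)
  have he : Odd e := by
    obtain ⟨w, hw⟩ := hu
    have h3 := h.he
    have h4 : u ^ 2 = 4 * (w * (w + 1)) + 1 := by rw [hw]; ring
    obtain ⟨z, hz⟩ := Nat.even_mul_succ_self w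
    exact ⟨3 * z, by omega⟩
  exact Nat.not_even_iff_odd.2 ((((((by decide : Odd 27).mul hu.pow).mul h.big_b.odd).mul he).mul h.big_ap.odd).mul
    h.big_am.odd) (even_iff_two_dvd.2 h2)

variable {K : Type*} [Field K] [Fintype K] (hK : Fintype.card K = 3 ^ (2 * m + 1))
include hK

theorem card : Nat.card (Lie.twistedG2 K (3 ^ m)) = 216 * u ^ 6 * b * e * ap * am := by
  rw [Cfsg.Agent.S1069.result hK, h.q, h.q1, h.q4]
  ring

/-- The numbers of elements of given order. -/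
theorem vals (hm : 1 ≤ m) (d v : ℕ) (hv : v = Nat.card {g : Lie.twistedG2 K (3 ^ m) // orderOf g = d}) :
    Odd v ∨ b * ap * am ∣ v ∨ 54 * u ^ 6 * e * ap * am ∣ v ∨ 36 * u ^ 6 * b * e * ap ∣ v ∨
      36 * u ^ 6 * b * e * am ∣ v := by
  obtain ⟨c2, c3, c6, c9, c1, c4, c5, c7⟩ := Cfsg.Agent.S2357.result hm hK
  rw [h.q] at c2 c3 c6 c9 c1 c4 c5 c7
  rw [h.s] at c5 c7
  simp only [h.q1, h.q2, h.q3, h.q4, h.q5, h.q7, h.q8] at c2 c3 c6 c9 c1 c4 c5 c7
  by_cases h0 : ∃ g : Lie.twistedG2 K (3 ^ m), orderOf g = d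
  swap
  · have : IsEmpty {g : Lie.twistedG2 K (3 ^ m) // orderOf g = d} := ⟨fun g => h0 ⟨g.1, g.2⟩⟩
    exact Or.inr (Or.inl (by simp [hv]))
  by_cases d1 : d = 1
  · subst d1
    exact Or.inl (by rw [hv, CL.Inv.card_orderOf_zero_one]; decide)
  by_cases d2 : d = 2
  · subst d2
    have hu : Odd u := h.hu ▸ Odd.pow (by decide)
    exact Or.inl (by rw [hv, c2]; exact ((by decide : Odd 3).mul hu.pow).pow.mul (h.big_ap.odd.mul h.big_am.odd))
  by_cases d3 : d = 3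
  · subst d3
    exact Or.inr (Or.inl ⟨32 * e ^ 2, by rw [hv, c3]; ring⟩)
  by_cases d6 : d = 6
  · subst d6
    exact Or.inr (Or.inl ⟨72 * u ^ 4 * e, by rw [hv, c6]; ring⟩)
  by_cases d9 : d = 9
  · subst d9
    exact Or.inr (Or.inl ⟨72 * u ^ 4 * e, by rw [hv, c9]; ring⟩)
  have hd := (Cfsg.Agent.S1159.result hm hK d).1 h0
  rw [h.q, h.s, h.q1, h.q6, h.q7, h.q8] at hd
  have d0 : d ≠ 0 := by
    obtain ⟨g, rfl⟩ := h0
    have : Finite (Lie.twistedG2 K (3 ^ m)) := inferInstance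
    exact (orderOf_pos g).ne'
  rcases hd with k | k | k | k | k | k
  · have := Nat.le_of_dvd (by norm_num) k
    interval_cases d <;> omega
  · have := Nat.le_of_dvd (by norm_num) k
    interval_cases d <;> omega
  · refine Or.inr (Or.inr (Or.inl ⟨d.totient, Nat.eq_of_mul_eq_mul_left two_pos ?_⟩))
    rw [hv, c1 d (by omega) k]; ring
  · refine Or.inr (Or.inl ?_)
    rcases Nat.even_or_odd' d with ⟨i, rfl | rfl⟩
    · refine ⟨27 * u ^ 6 * i.totient, Nat.eq_of_mul_eq_mul_left two_pos ?_⟩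
      rw [hv, (c4 i (by omega) (Nat.dvd_of_mul_dvd_mul_left two_pos k)).2]; ring
    · refine ⟨9 * u ^ 6 * (2 * i + 1).totient, Nat.eq_of_mul_eq_mul_left (by norm_num : 0 < 6) ?_⟩
      rw [hv, (c4 _ (by omega) ((Nat.coprime_two_right.2 ⟨i, rfl⟩).dvd_of_dvd_mul_left k)).1]; ring
  · refine Or.inr (Or.inr (Or.inr (Or.inl ⟨d.totient, Nat.eq_of_mul_eq_mul_left (by norm_num : 0 < 6) ?_⟩)))
    rw [hv, c5 d (by omega) k]; ring
  · refine Or.inr (Or.inr (Or.inr (Or.inr ⟨d.totient, Nat.eq_of_mul_eq_mul_left (by norm_num : 0 < 6) ?_⟩)))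
    rw [hv, c7 d (by omega) k]; ring

theorem xc_b (hm : 1 ≤ m) : xc (Lie.twistedG2 K (3 ^ m)) b = 1 + (b - 1) * (54 * u ^ 6 * e * ap * am) := by
  classical
  obtain ⟨-, -, -, -, c1, -⟩ := Cfsg.Agent.S2357.result hm hK
  rw [h.q, h.q1, h.q4] at c1
  have b0 := h.big_b.ne_zero
  have k : ∀ d ∈ b.divisors.erase 1, Nat.card {g : Lie.twistedG2 K (3 ^ m) // orderOf g = d} =
      d.totient * (54 * u ^ 6 * e * ap * am) := fun d hd => by
    obtain ⟨h1, h2⟩ := Finset.mem_erase.1 hd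
    have h3 := Nat.dvd_of_mem_divisors h2
    have h4 := (h.big_b.of_dvd h3).eq_one_or
    refine Nat.eq_of_mul_eq_mul_left two_pos ?_
    rw [c1 d (by omega) (h3.mul_left 2)]; ring
  have k2 := Nat.sum_totient b
  rw [← Finset.add_sum_erase _ _ (Nat.one_mem_divisors.2 b0), Nat.totient_one] at k2
  rw [xc, ← CL.Inv.sum_card_orderOf b0, ← Finset.add_sum_erase _ _ (Nat.one_mem_divisors.2 b0),
    CL.Inv.card_orderOf_zero_one, Finset.sum_congr rfl k, ← Finset.sum_mul]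
  congr 2
  omega

theorem xc_le (hm : 1 ≤ m) {m' u' b' e' ap' am' : ℕ} (h' : Num m' u' b' e' ap' am') :
    xc (Lie.twistedG2 K (3 ^ m)) b' ≤ xc (Lie.twistedG2 K (3 ^ m)) b := by
  refine xc_mono fun x hx => ?_
  have h1 := orderOf_dvd_of_pow_eq_one hx
  have h2 := h'.big_b.of_dvd h1
  have h3 := (h'.cop_b' h).coprime_dvd_left h1
  have hd := (Cfsg.Agent.S1159.result hm hK _).1 ⟨x, rfl⟩
  rw [h.q, h.s, h.q1, h.q6, h.q7, h.q8] at hd
  refine orderOf_dvd_iff_pow_eq_one.1 ?_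
  have k : ∀ n, orderOf x ∣ n → Nat.Coprime (orderOf x) n → orderOf x ∣ b := fun n a c =>
    (Nat.eq_one_of_dvd_coprimes c dvd_rfl a) ▸ one_dvd _
  rcases hd with k1 | k1 | k1 | k1 | k1 | k1
  · exact k _ k1 (h2.coprime (by norm_num) (by norm_num))
  · exact k _ k1 ((h2.coprime (n := 3) (by norm_num) (by norm_num)).pow_right 2)
  · exact (h2.coprime two_pos (by norm_num)).dvd_of_dvd_mul_left k1
  · exact k _ k1 (h3.coprime_dvd_right ⟨2 * ap * am, by ring⟩)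
  · exact k _ k1 (h3.coprime_dvd_right ⟨4 * e * ap, by ring⟩)
  · exact k _ k1 (h3.coprime_dvd_right ⟨4 * e * am, by ring⟩)

end Num

section congr
open Cfsg.Lie

theorem wordMat_map (D : ChevalleyDatum) {F K : Type*} [Field F] [Field K] (f : F →+* K) (w : List (ℕ × F)) :
    (D.wordMat F w).map f = D.wordMat K (w.map fun p => (p.1, f p.2)) := by
  induction w with
  | nil => simp [ChevalleyDatum.wordMat]
  | cons p w ih =>
    simp only [ChevalleyDatum.wordMat, List.map_cons, List.prod_cons, Matrix.map_mul] at ih ⊢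
    rw [ih]
    congr 1
    simp only [ChevalleyDatum.x]
    split_ifs
    exacts [CL.Pc.xMat_map D f _ _, by simp]

theorem words_map {F K : Type*} [Field F] [Field K] (f : F →+* K) (e : ℕ) {w : List (ℕ × F)} (hw : w ∈ g2Words F e) :
    (w.map fun p => (p.1, f p.2)) ∈ g2Words K e := by
  obtain ⟨t, u, v, rfl | rfl⟩ := hw
  · exact ⟨f t, f u, f v, .inl (by simp [reeWordU])⟩
  · exact ⟨f t, f u, f v, .inr (by simp [reeWordV, reeWordU, ChevalleyDatum.negWord])⟩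

/-- Small Ree groups over isomorphic fields. -/
theorem ree_congr {F K : Type*} [Field F] [Field K] (f : F ≃+* K) (e : ℕ) :
    Nonempty (twistedG2 F e ≃* twistedG2 K e) := by
  let φ : GL chevG2.Idx F ≃* GL chevG2.Idx K := Units.mapEquiv (RingEquiv.mapMatrix f).toMulEquiv
  have h : (twistedG2 F e).map φ.toMonoidHom = twistedG2 K e := by
    rw [twistedG2, ChevalleyDatum.genSubgroup, MonoidHom.map_closure]
    refine congrArg Subgroup.closure (Set.ext fun g => ⟨?_, ?_⟩)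
    · rintro ⟨g, ⟨w, hw, h⟩, rfl⟩
      exact ⟨_, words_map (f : F →+* K) e hw, Eq.trans (by rw [← h]; rfl) (wordMat_map _ (f : F →+* K) w)⟩
    · rintro ⟨w, hw, h⟩
      exact ⟨φ.symm g, ⟨_, words_map (f.symm : K →+* F) e hw,
        Eq.trans (by rw [← h]; rfl) (wordMat_map _ (f.symm : K →+* F) w)⟩, φ.apply_symm_apply g⟩
  exact ⟨(φ.subgroupMap _).trans (MulEquiv.subgroupCongr h)⟩

end congr

end CL.TBW.Nse
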